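import Mathlib
import Groth.Prelude.Def_BlowUp2

/-! The affine blow-up algebra and its universal property. -/

set_option autoImplicit false
set_option linter.style.haveILetI false

universe u

namespace Groth.Agent.BlowChartLib

variable {A : Type u} [CommRing A] {I : Ideal A} {a : A}

local notation "B" => BlowUp.affineAlgebra A I a

/-- The fraction `x / a`. -/
noncomputable def frac (x : A) (hx : x ∈ I) : B :=
  ⟨IsLocalization.mk' (Localization.Away a) x ⟨a, Submonoid.mem_powers a⟩, Algebra.subset_adjoin ⟨x, hx, rfl⟩⟩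

theorem frac_mul (x : A) (hx : x ∈ I) : frac (a := a) x hx * algebraMap A B a = algebraMap A B x :=
  Subtype.ext (IsLocalization.mk'_spec (Localization.Away a) x ⟨a, Submonoid.mem_powers a⟩)

theorem frac_self (ha : a ∈ I) : frac a ha = (1 : B) :=
  Subtype.ext (IsLocalization.mk'_self (Localization.Away a) (Submonoid.mem_powers a))

theorem frac_linear {ι : Type*} [Fintype ι] (c y : ι → A) (hy : ∀ i, y i ∈ I) (x : A) (hx : x ∈ I)
    (h : ∑ i, c i * y i = x) : frac (a := a) x hx = ∑ i, algebraMap A B (c i) * frac (y i) (hy i) := by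
  apply Subtype.ext
  rw [AddSubmonoidClass.coe_finsetSum]
  show IsLocalization.mk' (Localization.Away a) x ⟨a, Submonoid.mem_powers a⟩ =
    ∑ i, algebraMap A (Localization.Away a) (c i) * IsLocalization.mk' (Localization.Away a) (y i) ⟨a, Submonoid.mem_powers a⟩
  rw [IsLocalization.mk'_eq_iff_eq_mul, Finset.sum_mul, ← h, map_sum]
  exact Finset.sum_congr rfl fun i _ => by rw [mul_assoc, IsLocalization.mk'_spec, map_mul]

theorem val_frac (x : A) (hx : x ∈ I) :
    algebraMap A (Localization.Away a) x = (frac (a := a) x hx).1 * algebraMap A (Localization.Away a) a :=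
  (IsLocalization.mk'_spec (Localization.Away a) x ⟨a, Submonoid.mem_powers a⟩).symm

theorem mem_nonZeroDivisors : algebraMap A B a ∈ nonZeroDivisors B := by
  refine mem_nonZeroDivisors_iff_right.2 fun z hz => ?_
  apply Subtype.ext
  have h : (z : Localization.Away a) * algebraMap A (Localization.Away a) a = 0 := congrArg Subtype.val hz
  exact (IsLocalization.Away.algebraMap_isUnit a).mul_left_eq_zero.1 h

theorem map_eq_span (ha : a ∈ I) : I.map (algebraMap A B) = Ideal.span {algebraMap A B a} := by
  refine le_antisymm (Ideal.map_le_iff_le_comap.2 fun x hx => ?_) ((Ideal.span_singleton_le_iff_mem _).2 (Ideal.mem_map_of_mem _ ha))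
  rw [Ideal.mem_comap, ← frac_mul (a := a) x hx]
  exact Ideal.mul_mem_left _ _ (Ideal.mem_span_singleton_self _)

theorem induction_frac {P : B → Prop} (halg : ∀ r, P (algebraMap A B r)) (hfrac : ∀ x (hx : x ∈ I), P (frac x hx))
    (hadd : ∀ x y, P x → P y → P (x + y)) (hmul : ∀ x y, P x → P y → P (x * y)) (z : B) : P z := by
  obtain ⟨z, hz⟩ := z
  induction hz using Algebra.adjoin_induction with
  | mem y hy => obtain ⟨x, hx, rfl⟩ := hy; exact hfrac x hx
  | algebraMap r => exact halg r
  | add x y hx hy h₁ h₂ => exact hadd ⟨x, hx⟩ ⟨y, hy⟩ h₁ h₂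
  | mul x y hx hy h₁ h₂ => exact hmul ⟨x, hx⟩ ⟨y, hy⟩ h₁ h₂

variable {R : Type u} [CommRing R]

theorem hom_ext {φ φ' : B →+* R} (h : ∀ r, φ (algebraMap A B r) = φ' (algebraMap A B r))
    (hn : φ (algebraMap A B a) ∈ nonZeroDivisors R) : φ = φ' := by
  refine RingHom.ext fun z => induction_frac (P := fun z => φ z = φ' z) h (fun x hx => ?_)
    (fun x y hx hy => ((φ.map_add x y).trans (congrArg₂ (· + ·) hx hy)).trans (φ'.map_add x y).symm)
    (fun x y hx hy => ((φ.map_mul x y).trans (congrArg₂ (· * ·) hx hy)).trans (φ'.map_mul x y).symm) z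
  have h1 : φ (frac x hx) * φ (algebraMap A B a) = φ (algebraMap A B x) :=
    (φ.map_mul _ _).symm.trans (congrArg φ (frac_mul x hx))
  have h2 : φ' (frac x hx) * φ' (algebraMap A B a) = φ' (algebraMap A B x) :=
    (φ'.map_mul _ _).symm.trans (congrArg φ' (frac_mul x hx))
  rw [← h a, ← h x, ← h1] at h2
  exact ((mul_cancel_right_mem_nonZeroDivisors hn).1 h2).symm

theorem exists_hom (ψ : A →+* R) (hn : ψ a ∈ nonZeroDivisors R) (hI : I.map ψ ≤ Ideal.span {ψ a}) :
    ∃ φ : B →+* R, φ.comp (algebraMap A B) = ψ := by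
  let L := Localization.Away (ψ a)
  have hinj : Function.Injective (algebraMap R L) :=
    IsLocalization.injective L ((Submonoid.powers_le).2 hn)
  let Φ : Localization.Away a →+* L := Localization.awayMap ψ a
  have hΦ : ∀ r, Φ (algebraMap A _ r) = algebraMap R L (ψ r) := fun r => IsLocalization.map_eq _ r
  have hmem : ∀ z : B, Φ z ∈ (algebraMap R L).range := fun z =>
    induction_frac (P := fun z : B => Φ z ∈ (algebraMap R L).range) (fun r => ⟨ψ r, (hΦ r).symm⟩)
      (fun x hx => by
        obtain ⟨c, hc⟩ := Ideal.mem_span_singleton'.1 (hI (Ideal.mem_map_of_mem _ hx))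
        refine ⟨c, ?_⟩
        have hu : IsUnit (algebraMap R L (ψ a)) := IsLocalization.Away.algebraMap_isUnit (ψ a)
        have h1 : Φ (frac (a := a) x hx : Localization.Away a) * Φ (algebraMap A _ a) = Φ (algebraMap A _ x) :=
          (Φ.map_mul _ _).symm.trans (congrArg Φ (IsLocalization.mk'_spec (Localization.Away a) x ⟨a, Submonoid.mem_powers a⟩))
        have h2 : algebraMap R L c * algebraMap R L (ψ a) = algebraMap R L (ψ x) :=
          ((algebraMap R L).map_mul _ _).symm.trans (congrArg (algebraMap R L) hc)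
        rw [hΦ, hΦ, ← h2] at h1
        exact (hu.mul_left_inj.1 h1).symm)
      (fun x y hx hy => by rw [AddMemClass.coe_add, map_add]; exact add_mem hx hy)
      (fun x y hx hy => by rw [MulMemClass.coe_mul, map_mul]; exact mul_mem hx hy) z
  let e : R ≃+* (algebraMap R L).range := RingEquiv.ofBijective (algebraMap R L).rangeRestrict
    ⟨fun x y hxy => hinj (congrArg Subtype.val hxy), (algebraMap R L).rangeRestrict_surjective⟩
  refine ⟨e.symm.toRingHom.comp ((Φ.comp (BlowUp.affineAlgebra A I a).val.toRingHom).codRestrict _ hmem), RingHom.ext fun r => ?_⟩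
  refine (RingEquiv.symm_apply_eq e).2 (Subtype.ext ?_)
  exact hΦ r

end Groth.Agent.BlowChartLib
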