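import Mathlib
import Groth.Agent.BlowChartLib.Algebra
import Groth.Agent.BlowCompLib.Flat

/-! The affine charts of a blow-up. -/

set_option autoImplicit false
set_option backward.isDefEq.respectTransparency false
set_option backward.defeqAttrib.useBackward true
set_option linter.style.haveILetI false

universe u

open CategoryTheory CategoryTheory.Limits AlgebraicGeometry

namespace Groth.Agent.BlowChartLib

variable {X X' : Scheme.{u}} (𝓘 : X.IdealSheafData) (U : X.affineOpens) (a : Γ(X, U.1))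

/-- The affine blow-up algebra on an affine open. -/
abbrev ChartAlg : Type u := ↥(BlowUp.affineAlgebra Γ(X, U.1) (𝓘.ideal U) a)

/-- The structure morphism of the affine blow-up algebra. -/
noncomputable def chartMap : Spec (CommRingCat.of (ChartAlg 𝓘 U a)) ⟶ X :=
  Spec.map (CommRingCat.ofHom (algebraMap Γ(X, U.1) (ChartAlg 𝓘 U a))) ≫ U.2.fromSpec

theorem le_preimage_chartMap : (⊤ : (Spec (CommRingCat.of (ChartAlg 𝓘 U a))).Opens) ≤ chartMap 𝓘 U a ⁻¹ᵁ U.1 := fun y _ => by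
  show chartMap 𝓘 U a y ∈ U.1
  rw [chartMap, Scheme.Hom.comp_apply, ← SetLike.mem_coe, ← U.2.range_fromSpec]
  exact Set.mem_range_self _

theorem appLE_chartMap (r : Γ(X, U.1)) :
    ((chartMap 𝓘 U a).appLE U.1 ⊤ (le_preimage_chartMap 𝓘 U a)).hom r =
      (Scheme.ΓSpecIso (CommRingCat.of (ChartAlg 𝓘 U a))).inv.hom (algebraMap Γ(X, U.1) (ChartAlg 𝓘 U a) r) := by
  have key : (chartMap 𝓘 U a).appLE U.1 ⊤ (le_preimage_chartMap 𝓘 U a) =
      CommRingCat.ofHom (algebraMap Γ(X, U.1) (ChartAlg 𝓘 U a)) ≫ (Scheme.ΓSpecIso (CommRingCat.of (ChartAlg 𝓘 U a))).inv := by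
    have h1 := IsAffineOpen.SpecMap_appLE_fromSpec (chartMap 𝓘 U a) U.2
      (isAffineOpen_top (Spec (CommRingCat.of (ChartAlg 𝓘 U a)))) (le_preimage_chartMap 𝓘 U a)
    rw [IsAffineOpen.fromSpec_top, Scheme.isoSpec_Spec_inv] at h1
    conv_rhs at h1 => rw [chartMap, ← Category.assoc, ← Spec.map_comp]
    exact Spec.map_injective ((cancel_mono U.2.fromSpec).1 h1)
  rw [key]
  rfl

theorem exists_top_generator (ha : a ∈ 𝓘.ideal U) :
    ∃ g : Γ(Spec (CommRingCat.of (ChartAlg 𝓘 U a)), ⊤), g = ((chartMap 𝓘 U a).appLE U.1 ⊤ (le_preimage_chartMap 𝓘 U a)).hom a ∧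
      g ∈ nonZeroDivisors Γ(Spec (CommRingCat.of (ChartAlg 𝓘 U a)), ⊤) ∧
      (𝓘.comap (chartMap 𝓘 U a)).ideal ⟨⊤, isAffineOpen_top _⟩ = Ideal.span {g} := by
  let e : (ChartAlg 𝓘 U a) ≃+* Γ(Spec (CommRingCat.of (ChartAlg 𝓘 U a)), ⊤) := (Scheme.ΓSpecIso (CommRingCat.of (ChartAlg 𝓘 U a))).symm.commRingCatIsoToRingEquiv
  refine ⟨_, rfl, ?_, ?_⟩
  · rw [appLE_chartMap]
    exact MulEquivClass.map_nonZeroDivisors e ▸ ⟨_, mem_nonZeroDivisors, rfl⟩
  · rw [IdealStalkLib.comap_ideal 𝓘 (chartMap 𝓘 U a) U.2 (isAffineOpen_top _) (le_preimage_chartMap 𝓘 U a),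
      appLE_chartMap, show ((chartMap 𝓘 U a).appLE U.1 ⊤ (le_preimage_chartMap 𝓘 U a)).hom =
        e.toRingHom.comp (algebraMap Γ(X, U.1) (ChartAlg 𝓘 U a)) from RingHom.ext (appLE_chartMap 𝓘 U a), ← Ideal.map_map,
      map_eq_span ha, Ideal.map_span, Set.image_singleton]
    rfl

theorem isEffCartier_chartMap (ha : a ∈ 𝓘.ideal U) : BlowUp.IsEffCartierIdeal (𝓘.comap (chartMap 𝓘 U a)) := fun y => by
  obtain ⟨g, -, hg, hI⟩ := exists_top_generator 𝓘 U a ha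
  exact ⟨⟨⊤, isAffineOpen_top _⟩, trivial, g, hg, hI⟩

/-- Morphisms to the chart over the base are unique, as soon as the centre pulls back to an effective Cartier divisor. -/
theorem chartMap_hom_ext (ha : a ∈ 𝓘.ideal U) {W : Scheme.{u}} {m m' : W ⟶ Spec (CommRingCat.of (ChartAlg 𝓘 U a))}
    (h : m ≫ chartMap 𝓘 U a = m' ≫ chartMap 𝓘 U a)
    (hc : BlowUp.IsEffCartierIdeal (𝓘.comap (m ≫ chartMap 𝓘 U a))) : m = m' := by
  choose V hxV f hf hI using hc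
  refine Scheme.Cover.hom_ext (W.openCoverOfIsOpenCover (fun x => (V x).1)
    (TopologicalSpace.IsOpenCover.mk (top_le_iff.1 fun x _ => TopologicalSpace.Opens.mem_iSup.2 ⟨x, hxV x⟩))) m m' fun x => ?_
  show (V x).1.ι ≫ m = (V x).1.ι ≫ m'
  obtain ⟨φ, hφ⟩ := Spec.map_surjective ((V x).2.isoSpec.inv ≫ (V x).1.ι ≫ m)
  obtain ⟨φ', hφ'⟩ := Spec.map_surjective ((V x).2.isoSpec.inv ≫ (V x).1.ι ≫ m')
  rw [← cancel_epi (V x).2.isoSpec.inv, ← hφ, ← hφ']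
  have h1 : CommRingCat.ofHom (algebraMap Γ(X, U.1) (ChartAlg 𝓘 U a)) ≫ φ = CommRingCat.ofHom (algebraMap Γ(X, U.1) (ChartAlg 𝓘 U a)) ≫ φ' := by
    apply Spec.map_injective
    rw [← cancel_mono U.2.fromSpec, Spec.map_comp, Spec.map_comp, hφ, hφ']
    simp only [Category.assoc]
    exact congrArg (fun q => (V x).2.isoSpec.inv ≫ (V x).1.ι ≫ q) h
  congr 1
  refine CommRingCat.hom_ext (hom_ext (fun r => congrArg (fun q => q.hom r) h1) ?_)
  have e : (V x).1 ≤ (m ≫ chartMap 𝓘 U a) ⁻¹ᵁ U.1 := fun y _ => le_preimage_chartMap 𝓘 U a (x := m y) trivial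
  have hψ : (m ≫ chartMap 𝓘 U a).appLE U.1 (V x).1 e = CommRingCat.ofHom (algebraMap Γ(X, U.1) (ChartAlg 𝓘 U a)) ≫ φ := by
    apply Spec.map_injective
    rw [← cancel_mono U.2.fromSpec, IsAffineOpen.SpecMap_appLE_fromSpec _ U.2 (V x).2 e, Spec.map_comp, hφ]
    simp only [IsAffineOpen.fromSpec, chartMap, Category.assoc]
  have hI' := IdealStalkLib.comap_ideal 𝓘 (m ≫ chartMap 𝓘 U a) U.2 (V x).2 e
  rw [hI, hψ, CommRingCat.hom_comp, CommRingCat.hom_ofHom, ← Ideal.map_map, map_eq_span ha, Ideal.map_span,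
    Set.image_singleton] at hI'
  obtain ⟨c, hc'⟩ := Ideal.mem_span_singleton'.1 (hI'.ge (Ideal.mem_span_singleton_self _))
  obtain ⟨d, hd⟩ := Ideal.mem_span_singleton'.1 (hI'.le (Ideal.mem_span_singleton_self (f x)))
  have hcd : d * c = 1 := (mul_cancel_right_mem_nonZeroDivisors (hf x)).1 (by rw [one_mul, mul_assoc, hc', hd])
  show φ.hom (algebraMap _ _ a) ∈ _
  rw [← hc']
  exact mul_mem (IsUnit.mem_nonZeroDivisors (IsUnit.of_mul_eq_one_right _ hcd)) (hf x)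

variable (b : X' ⟶ X)

/-- An affine open of the blow-up on which `a` generates the inverse image ideal. -/
def IsGood (V : X'.affineOpens) : Prop :=
  ∃ e : V.1 ≤ b ⁻¹ᵁ U.1, (b.appLE U.1 V.1 e).hom a ∈ nonZeroDivisors Γ(X', V.1) ∧
    (𝓘.comap b).ideal V = Ideal.span {(b.appLE U.1 V.1 e).hom a}

/-- The chart of the blow-up on which `a` generates. -/
def chartOpen : X'.Opens := ⨆ V : {V : X'.affineOpens // IsGood 𝓘 U a b V}, V.1.1

theorem exists_generator_near (hb : BlowUp.IsBlowUp b 𝓘) (x : X') (hx : b x ∈ U.1) :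
    ∃ (V : X'.affineOpens) (e : V.1 ≤ b ⁻¹ᵁ U.1), x ∈ V.1 ∧ ∃ f ∈ nonZeroDivisors Γ(X', V.1),
      (𝓘.comap b).ideal V = Ideal.span {f} ∧ (𝓘.ideal U).map (b.appLE U.1 V.1 e).hom = Ideal.span {f} := by
  obtain ⟨V₀, hxV₀, f₀, hf₀, hI₀⟩ := hb.1 x
  obtain ⟨t, htle, hxt⟩ := V₀.2.exists_basicOpen_le (V := V₀.1 ⊓ b ⁻¹ᵁ U.1) ⟨x, hxV₀, hx⟩ hxV₀
  obtain ⟨f, hf, hI⟩ := RelDivLib.generator_res (𝓘.comap b) V₀ t hf₀ hI₀
  refine ⟨X'.affineBasicOpen (U := V₀) t, htle.trans inf_le_right, hxt, f, hf, hI, ?_⟩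
  refine Eq.trans ?_ hI
  rw [IdealStalkLib.comap_ideal 𝓘 b U.2 (X'.affineBasicOpen (U := V₀) t).2 (htle.trans inf_le_right)]

theorem isGood_basicOpen {V : X'.affineOpens} (e : V.1 ≤ b ⁻¹ᵁ U.1) {f : Γ(X', V.1)} (hf : f ∈ nonZeroDivisors Γ(X', V.1))
    (hI : (𝓘.comap b).ideal V = Ideal.span {f}) {d : Γ(X', V.1)} (hd : (b.appLE U.1 V.1 e).hom a = d * f) :
    IsGood 𝓘 U a b (X'.affineBasicOpen (U := V) d) := by
  let ρ : Γ(X', V.1) →+* Γ(X', X'.basicOpen d) := (X'.presheaf.map (homOfLE (X'.basicOpen_le d)).op).hom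
  letI : Algebra Γ(X', V.1) Γ(X', X'.basicOpen d) := ρ.toAlgebra
  haveI : IsLocalization.Away d Γ(X', X'.basicOpen d) := V.2.isLocalization_basicOpen d
  have he : X'.basicOpen d ≤ b ⁻¹ᵁ U.1 := (X'.basicOpen_le d).trans e
  have hg : (b.appLE U.1 (X'.basicOpen d) he).hom a = ρ d * ρ f := by
    rw [← map_mul, ← hd, ← Scheme.Hom.appLE_map b e (homOfLE (X'.basicOpen_le d)).op]
    rfl
  have hu : IsUnit (ρ d) := IsLocalization.Away.algebraMap_isUnit (S := Γ(X', X'.basicOpen d)) d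
  refine ⟨he, ?_, ?_⟩
  · show (b.appLE U.1 (X'.basicOpen d) he).hom a ∈ nonZeroDivisors Γ(X', X'.basicOpen d)
    rw [hg]
    exact mul_mem hu.mem_nonZeroDivisors (IsLocalization.map_nonZeroDivisors_le (Submonoid.powers d) Γ(X', X'.basicOpen d) ⟨f, hf, rfl⟩)
  · show (𝓘.comap b).ideal (X'.affineBasicOpen (U := V) d) = Ideal.span {(b.appLE U.1 (X'.basicOpen d) he).hom a}
    rw [← (𝓘.comap b).map_ideal_basicOpen V d, hI, Ideal.map_span, Set.image_singleton]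
    show Ideal.span {ρ f} = Ideal.span {_}
    rw [hg, Ideal.span_singleton_mul_left_unit hu]

theorem exists_mem_chartOpen (hb : BlowUp.IsBlowUp b 𝓘) (s : Set Γ(X, U.1)) (hs : Ideal.span s = 𝓘.ideal U)
    (x : X') (hx : b x ∈ U.1) : ∃ a ∈ s, x ∈ chartOpen 𝓘 U a b := by
  obtain ⟨V, e, hxV, f, hf, hI, hmap⟩ := exists_generator_near 𝓘 U b hb x hx
  let γ : Γ(X', V.1) →+* X'.presheaf.stalk x := (X'.presheaf.germ V.1 x hxV).hom
  by_contra hn
  push Not at hn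
  let P : Ideal Γ(X', V.1) := (IsLocalRing.maximalIdeal (X'.presheaf.stalk x)).comap γ
  have hle : Ideal.span {f} ≤ P * Ideal.span {f} := by
    conv_lhs => rw [← hmap, ← hs, Ideal.map_span]
    rw [Ideal.span_le]
    rintro _ ⟨a, ha, rfl⟩
    have hmem : (b.appLE U.1 V.1 e).hom a ∈ Ideal.span {f} := hmap ▸ Ideal.mem_map_of_mem _ (hs ▸ Ideal.subset_span ha)
    obtain ⟨d, hd⟩ := Ideal.mem_span_singleton'.1 hmem
    refine Ideal.mem_mul_span_singleton.2 ⟨d, ?_, hd⟩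
    by_contra hu
    exact hn a ha (TopologicalSpace.Opens.mem_iSup.2 ⟨⟨_, isGood_basicOpen 𝓘 U a b e hf hI hd.symm⟩,
      (X'.mem_basicOpen d x hxV).2 (IsLocalRing.notMem_maximalIdeal.1 hu)⟩)
  obtain ⟨p, hp, hpf⟩ := Ideal.mem_mul_span_singleton.1 (hle (Ideal.mem_span_singleton_self f))
  have hp1 : p = 1 := (mul_cancel_right_mem_nonZeroDivisors hf).1 (by rw [one_mul, hpf])
  subst hp1
  exact (IsLocalRing.maximalIdeal.isMaximal (X'.presheaf.stalk x)).ne_top ((Ideal.eq_top_iff_one _).2 (by simpa [P] using hp))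

theorem range_hom_subset (ha : a ∈ 𝓘.ideal U) (hb : BlowUp.IsBlowUp b 𝓘) {h : Spec (CommRingCat.of (ChartAlg 𝓘 U a)) ⟶ X'}
    (hh : h ≫ b = chartMap 𝓘 U a) (y : Spec (CommRingCat.of (ChartAlg 𝓘 U a))) : h y ∈ chartOpen 𝓘 U a b := by
  have hy : b (h y) ∈ U.1 := by
    rw [← Scheme.Hom.comp_apply, hh]
    exact le_preimage_chartMap 𝓘 U a (x := y) trivial
  obtain ⟨V, e, hxV, f, hf, hI, hmap⟩ := exists_generator_near 𝓘 U b hb (h y) hy
  obtain ⟨d, hd⟩ := Ideal.mem_span_singleton'.1 (hmap ▸ Ideal.mem_map_of_mem (b.appLE U.1 V.1 e).hom ha)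
  obtain ⟨W, hyW, hWV⟩ := BlowCompLib.exists_affine_le h y hxV
  obtain ⟨g, hg, hgn, hgI⟩ := exists_top_generator 𝓘 U a ha
  let ρ := ((Spec (CommRingCat.of (ChartAlg 𝓘 U a))).presheaf.map (homOfLE (le_top : W.1 ≤ ⊤)).op).hom
  have hflat : ρ g ∈ nonZeroDivisors Γ(Spec (CommRingCat.of (ChartAlg 𝓘 U a)), W.1) := by
    letI := ρ.toAlgebra
    haveI : Module.Flat Γ(Spec (CommRingCat.of (ChartAlg 𝓘 U a)), ⊤) Γ(Spec (CommRingCat.of (ChartAlg 𝓘 U a)), W.1) := by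
      have h : ((Scheme.Hom.appLE (𝟙 (Spec (CommRingCat.of (ChartAlg 𝓘 U a)))) ⊤ W.1 le_top)).hom.Flat :=
        HasRingHomProperty.appLE (P := @Flat) _ inferInstance ⟨⊤, isAffineOpen_top _⟩ W le_top
      rwa [Scheme.Hom.appLE, Scheme.Hom.id_app, Category.id_comp] at h
    exact mem_nonZeroDivisors_iff_right.2 fun z hz => (IsSMulRegular.of_flat (S := Γ(Spec (CommRingCat.of (ChartAlg 𝓘 U a)), W.1))
      (fun u v huv => (mul_cancel_left_mem_nonZeroDivisors hgn).1 huv)) (show ρ g * z = ρ g * 0 by rw [mul_zero, mul_comm, hz])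
  let θ := (h.appLE V.1 W.1 hWV).hom
  have hgθ : θ ((b.appLE U.1 V.1 e).hom a) = ρ g := by
    rw [hg]
    simp only [θ, ρ, ← CommRingCat.comp_apply, Scheme.Hom.appLE_comp_appLE, Scheme.Hom.appLE_map, hh]
  have hfθ : θ f ∈ Ideal.span {ρ g} := by
    have h2 : θ f ∈ ((𝓘.comap b).comap h).ideal W := by
      rw [BlowCompLib.ideal_comap_span (𝓘.comap b) h hI W hWV]
      exact Ideal.mem_span_singleton_self _
    rw [← Scheme.IdealSheafData.comap_comp, hh, ← (𝓘.comap (chartMap 𝓘 U a)).map_ideal (U := W) (V := ⟨⊤, isAffineOpen_top _⟩) (le_top (a := W.1)),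
      hgI, Ideal.map_span, Set.image_singleton] at h2
    exact h2
  obtain ⟨c, hc⟩ := Ideal.mem_span_singleton'.1 hfθ
  have hu : IsUnit (θ d) := IsUnit.of_mul_eq_one c ((mul_cancel_right_mem_nonZeroDivisors hflat).1 (by
    rw [one_mul, mul_assoc, hc, ← map_mul, hd, hgθ]))
  refine TopologicalSpace.Opens.mem_iSup.2 ⟨⟨_, isGood_basicOpen 𝓘 U a b e hf hI hd.symm⟩, ?_⟩
  have h3 : W.1 ≤ (Spec (CommRingCat.of (ChartAlg 𝓘 U a))).basicOpen (θ d) := fun z hz =>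
    ((Spec (CommRingCat.of (ChartAlg 𝓘 U a))).mem_basicOpen _ z hz).2 (hu.map _)
  have h4 := h3 hyW
  rw [show θ = (h.app V.1 ≫ (Spec (CommRingCat.of (ChartAlg 𝓘 U a))).presheaf.map (homOfLE hWV).op).hom from rfl, CommRingCat.comp_apply,
    Scheme.basicOpen_res, ← Scheme.preimage_basicOpen] at h4
  exact h4.2

theorem isOpenImmersion_hom (ha : a ∈ 𝓘.ideal U) (hb : BlowUp.IsBlowUp b 𝓘) :
    ∃ e : (chartOpen 𝓘 U a b).toScheme ≅ Spec (CommRingCat.of (ChartAlg 𝓘 U a)), e.hom ≫ chartMap 𝓘 U a = (chartOpen 𝓘 U a b).ι ≫ b := by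
  let D := chartOpen 𝓘 U a b
  obtain ⟨h, hh, -⟩ := hb.2 _ (chartMap 𝓘 U a) (isEffCartier_chartMap 𝓘 U a ha)
  let h' := IsOpenImmersion.lift D.ι h (by
    rw [Scheme.Opens.range_ι]
    rintro _ ⟨y, rfl⟩
    exact range_hom_subset 𝓘 U a b ha hb hh y)
  have hh' : h' ≫ D.ι = h := IsOpenImmersion.lift_fac _ _ _
  haveI : IsIso h' := by
    refine (IsZariskiLocalAtTarget.iff_of_iSup_eq_top (P := MorphismProperty.isomorphisms Scheme.{u})
      (fun V : {V : X'.affineOpens // IsGood 𝓘 U a b V} => D.ι ⁻¹ᵁ V.1.1) (top_le_iff.1 fun x _ => ?_)).2 fun V => ?_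
    · obtain ⟨V, hV⟩ := TopologicalSpace.Opens.mem_iSup.1 (show D.ι x ∈ chartOpen 𝓘 U a b from x.2)
      exact TopologicalSpace.Opens.mem_iSup.2 ⟨V, hV⟩
    show IsIso (h' ∣_ (D.ι ⁻¹ᵁ V.1.1))
    obtain ⟨V, e, hn, hI⟩ := V
    let W := D.ι ⁻¹ᵁ V.1
    obtain ⟨φ, hφ⟩ := exists_hom (I := 𝓘.ideal U) (b.appLE U.1 V.1 e).hom hn (by
      rw [← hI, IdealStalkLib.comap_ideal 𝓘 b U.2 V.2 e])
    let toV : W.toScheme ⟶ V.1 := IsOpenImmersion.lift V.1.ι (W.ι ≫ D.ι) (by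
      rw [Scheme.Opens.range_ι]; rintro _ ⟨y, rfl⟩; exact y.2)
    let m : V.1.toScheme ⟶ Spec (CommRingCat.of (ChartAlg 𝓘 U a)) := V.2.isoSpec.hom ≫ Spec.map (CommRingCat.ofHom φ)
    have hm : m ≫ chartMap 𝓘 U a = V.1.ι ≫ b := by
      rw [← cancel_epi V.2.isoSpec.inv]
      simp only [m, Category.assoc, Iso.inv_hom_id_assoc, chartMap]
      rw [← Spec.map_comp_assoc, show CommRingCat.ofHom (algebraMap Γ(X, U.1) (ChartAlg 𝓘 U a)) ≫ CommRingCat.ofHom φ = b.appLE U.1 V.1 e from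
        CommRingCat.hom_ext hφ, IsAffineOpen.SpecMap_appLE_fromSpec b U.2 V.2 e, IsAffineOpen.fromSpec, Category.assoc]
    have hmh : m ≫ h = V.1.ι := by
      obtain ⟨t, -, ht⟩ := hb.2 _ (V.1.ι ≫ b) (by
        rw [Scheme.IdealSheafData.comap_comp]; exact BlowCompLib.isEffCartier_comap_openImmersion hb.1 _)
      rw [ht _ rfl]
      exact ht (m ≫ h) ((Category.assoc _ _ _).trans ((congrArg (m ≫ ·) hh).trans hm))
    have htoV : toV ≫ V.1.ι = W.ι ≫ D.ι := IsOpenImmersion.lift_fac _ _ _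
    have hcomm : (toV ≫ m) ≫ h' = W.ι := by
      rw [← cancel_mono D.ι, Category.assoc, hh', Category.assoc, hmh, htoV]
    let t : W.toScheme ⟶ (h' ⁻¹ᵁ W).toScheme := IsOpenImmersion.lift (h' ⁻¹ᵁ W).ι (toV ≫ m) (by
      rw [Scheme.Opens.range_ι]
      rintro _ ⟨y, rfl⟩
      show h' ((toV ≫ m) y) ∈ W
      rw [← Scheme.Hom.comp_apply, hcomm]
      exact y.2)
    have ht : t ≫ (h' ⁻¹ᵁ W).ι = toV ≫ m := IsOpenImmersion.lift_fac _ _ _
    refine ⟨t, ?_, ?_⟩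
    · rw [← cancel_mono (h' ⁻¹ᵁ W).ι, Category.assoc, ht, Category.id_comp]
      refine chartMap_hom_ext 𝓘 U a ha ?_ ?_
      · rw [Category.assoc, Category.assoc, hm, reassoc_of% htoV, ← Category.assoc (h' ∣_ W) W.ι, morphismRestrict_ι,
          Category.assoc, reassoc_of% hh', hh]
      · rw [Category.assoc, Category.assoc, hm, reassoc_of% htoV, ← Category.assoc (h' ∣_ W) W.ι, morphismRestrict_ι,
          Category.assoc, reassoc_of% hh', hh, Scheme.IdealSheafData.comap_comp]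
        exact BlowCompLib.isEffCartier_comap_openImmersion (isEffCartier_chartMap 𝓘 U a ha) _
    · rw [← cancel_mono W.ι, Category.assoc, morphismRestrict_ι, Category.id_comp, ← Category.assoc, ht]
      exact hcomm
  refine ⟨(asIso h').symm, ?_⟩
  rw [← cancel_epi h', Iso.symm_hom, ← Category.assoc]
  simp only [asIso_inv, IsIso.hom_inv_id, Category.id_comp]
  rw [← hh, ← hh', Category.assoc]

end Groth.Agent.BlowChartLib
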