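import Mathlib
import Groth.Agent.BlowChartLib.Scheme
import Groth.Agent.BlowCompLib.Flat
import Groth.Agent.RegLocLib.Basic
import Groth.Agent.RegIdealLib.Immersion
import Groth.Agent.HTopV.Basic

/-! Regularity of blow-ups along their exceptional divisors. -/

set_option autoImplicit false
set_option backward.isDefEq.respectTransparency false
set_option backward.defeqAttrib.useBackward true
set_option linter.style.haveILetI false

universe u

open CategoryTheory CategoryTheory.Limits AlgebraicGeometry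

namespace Groth.Agent.BlowChartLib

variable {X Y : Scheme.{u}}

theorem stalk_regular_iff {U : X.Opens} (hU : IsAffineOpen U) {x : X} (hx : x ∈ U) :
    IsRegularLocalRing (X.presheaf.stalk x) ↔ hU.primeIdealOf ⟨x, hx⟩ ∈ EGA4.regLocus Γ(X, U) := by
  letI : Algebra Γ(X, U) (X.presheaf.stalk x) := TopCat.Presheaf.algebra_section_stalk X.presheaf ⟨x, hx⟩
  haveI := hU.isLocalization_stalk ⟨x, hx⟩
  let e := (IsLocalization.algEquiv (hU.primeIdealOf ⟨x, hx⟩).asIdeal.primeCompl (X.presheaf.stalk x)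
    (Localization.AtPrime (hU.primeIdealOf ⟨x, hx⟩).asIdeal)).toRingEquiv
  refine ⟨fun h => ?_, fun h => ?_⟩
  · haveI := h
    exact IsRegularLocalRing.of_ringEquiv e
  · haveI : IsRegularLocalRing (Localization.AtPrime (hU.primeIdealOf ⟨x, hx⟩).asIdeal) := h
    exact IsRegularLocalRing.of_ringEquiv e.symm

theorem regular_stalk_of_smooth (f : X ⟶ Y) [Smooth f] [IsLocallyNoetherian Y] (x : X)
    (h : IsRegularLocalRing (Y.presheaf.stalk (f x))) : IsRegularLocalRing (X.presheaf.stalk x) := by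
  obtain ⟨_, ⟨U : Y.Opens, hU, rfl⟩, hxU, -⟩ := Y.isBasis_affineOpens.exists_subset_of_mem_open (Set.mem_univ (f x)) isOpen_univ
  obtain ⟨⟨V, hV⟩, hxV, e⟩ := BlowCompLib.exists_affine_le f x hxU
  have hs : (f.appLE U V e).hom.Smooth := HasRingHomProperty.appLE (P := @Smooth) f inferInstance ⟨U, hU⟩ ⟨V, hV⟩ e
  algebraize [(f.appLE U V e).hom]
  haveI : IsNoetherianRing Γ(Y, U) := IsLocallyNoetherian.component_noetherian ⟨U, hU⟩
  rw [stalk_regular_iff hV hxV]
  haveI : Algebra.IsSmoothAt Γ(Y, U) (hV.primeIdealOf ⟨x, hxV⟩).asIdeal := inferInstance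
  refine RegLocLib.mem_regLocus_of_smoothAt (R := Γ(Y, U)) _ ?_
  rw [show algebraMap Γ(Y, U) Γ(X, V) = (f.appLE U V e).hom from rfl,
    IsAffineOpen.comap_primeIdealOf_appLE U hU V hV e hxV]
  exact (stalk_regular_iff hU hxU).1 h

theorem regular_stalk_of_specializes {x y : X} (h : x ⤳ y) (hy : IsRegularLocalRing (X.presheaf.stalk y)) :
    IsRegularLocalRing (X.presheaf.stalk x) := by
  obtain ⟨_, ⟨U : X.Opens, hU, rfl⟩, hyU, -⟩ := X.isBasis_affineOpens.exists_subset_of_mem_open (Set.mem_univ y) isOpen_univ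
  have hxU : x ∈ U := h.mem_open U.2 hyU
  rw [stalk_regular_iff hU hxU]
  refine RegLocLib.mem_regLocus_of_le ?_ ((stalk_regular_iff hU hyU).1 hy)
  rw [PrimeSpectrum.asIdeal_le_asIdeal, PrimeSpectrum.le_iff_specializes]
  have h1 := hU.fromSpec.isOpenEmbedding.isInducing.specializes_iff (x := hU.primeIdealOf ⟨x, hxU⟩) (y := hU.primeIdealOf ⟨y, hyU⟩)
  rw [hU.fromSpec_primeIdealOf, hU.fromSpec_primeIdealOf] at h1
  exact h1.1 h

theorem regular_stalk_of_divisor [IsLocallyNoetherian X] (D : X.IdealSheafData) (hD : BlowUp.IsEffCartierIdeal D)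
    (w : D.subscheme) (h : IsRegularLocalRing (D.subscheme.presheaf.stalk w)) :
    IsRegularLocalRing (X.presheaf.stalk (D.subschemeι w)) := by
  obtain ⟨⟨V, hV⟩, hwV, g, hg, hI⟩ := hD (D.subschemeι w)
  let γ := (X.presheaf.germ V (D.subschemeι w) hwV).hom
  have hk : RingHom.ker (D.subschemeι.stalkMap w).hom = Ideal.span {γ g} := by
    rw [RegIdealLib.ker_stalkMap D.subschemeι hV (IsZariskiLocalAtTarget.restrict (P := @IsClosedImmersion) (inferInstanceAs (IsClosedImmersion D.subschemeι)) V) w hwV,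
      Scheme.IdealSheafData.ker_subschemeι_app D ⟨V, hV⟩, hI, Ideal.map_span, Set.image_singleton]
  have hgn : γ g ∈ nonZeroDivisors (X.presheaf.stalk (D.subschemeι w)) := by
    letI : Algebra Γ(X, V) (X.presheaf.stalk (D.subschemeι w)) := TopCat.Presheaf.algebra_section_stalk X.presheaf ⟨_, hwV⟩
    haveI := hV.isLocalization_stalk ⟨_, hwV⟩
    exact IsLocalization.map_nonZeroDivisors_le (hV.primeIdealOf ⟨_, hwV⟩).asIdeal.primeCompl _ ⟨g, hg, rfl⟩
  have hgm : γ g ∈ IsLocalRing.maximalIdeal (X.presheaf.stalk (D.subschemeι w)) :=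
    IsLocalRing.le_maximalIdeal (RingHom.ker_ne_top (D.subschemeι.stalkMap w).hom) (hk ▸ Ideal.mem_span_singleton_self _)
  haveI : IsRegularLocalRing (X.presheaf.stalk (D.subschemeι w) ⧸ Ideal.span {γ g}) := by
    haveI := h
    exact IsRegularLocalRing.of_ringEquiv ((Ideal.quotEquivOfEq hk.symm).trans
      (RingHom.quotientKerEquivOfSurjective (D.subschemeι.stalkMap_surjective w))).symm
  exact RegLocal.isRegularLocalRing_of_quot_regular hgm hgn

variable {X' : Scheme.{u}} (𝓘 : X.IdealSheafData) (b : X' ⟶ X)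

theorem regular_stalk_off_exceptional_iff (hb : BlowUp.IsBlowUp b 𝓘) (x' : X') (hx' : b x' ∉ 𝓘.support) :
    IsRegularLocalRing (X'.presheaf.stalk x') ↔ IsRegularLocalRing (X.presheaf.stalk (b x')) := by
  let U : X'.Opens := (𝓘.comap b).support.compl
  have hxU : x' ∈ U := by
    show x' ∉ (𝓘.comap b).support
    rw [Scheme.IdealSheafData.support_comap]
    exact hx'
  haveI := BlowCompLib.isOpenImmersion_off_exceptional 𝓘 b hb
  let e₁ := (asIso ((U.ι ≫ b).stalkMap ⟨x', hxU⟩)).commRingCatIsoToRingEquiv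
  let e₂ := (asIso (U.ι.stalkMap ⟨x', hxU⟩)).commRingCatIsoToRingEquiv
  refine ⟨fun h => ?_, fun h => ?_⟩
  · haveI : IsRegularLocalRing (X'.presheaf.stalk (U.ι ⟨x', hxU⟩)) := h
    exact @IsRegularLocalRing.of_ringEquiv _ _ inferInstance _ _ (e₂.trans e₁.symm)
  · haveI : IsRegularLocalRing (X.presheaf.stalk ((U.ι ≫ b) ⟨x', hxU⟩)) := h
    exact @IsRegularLocalRing.of_ringEquiv _ _ inferInstance _ _ (e₁.trans e₂.symm)

theorem isLocallyNoetherian_blowUp [IsLocallyNoetherian X] (hb : BlowUp.IsBlowUp b 𝓘) : IsLocallyNoetherian X' := by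
  have key : ∀ x : X', ∃ V : X'.affineOpens, x ∈ V.1 ∧ IsNoetherianRing Γ(X', V.1) := fun x => by
    obtain ⟨_, ⟨U : X.Opens, hU, rfl⟩, hxU, -⟩ := X.isBasis_affineOpens.exists_subset_of_mem_open (Set.mem_univ (b x)) isOpen_univ
    haveI : IsNoetherianRing Γ(X, U) := IsLocallyNoetherian.component_noetherian ⟨U, hU⟩
    obtain ⟨s, hs⟩ := IsNoetherian.noetherian (𝓘.ideal ⟨U, hU⟩)
    have hmem : ∀ i : s, (i : Γ(X, U)) ∈ 𝓘.ideal ⟨U, hU⟩ := fun i => hs ▸ Submodule.subset_span i.2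
    obtain ⟨a, ha, hx⟩ := exists_mem_chartOpen 𝓘 ⟨U, hU⟩ b hb (s : Set Γ(X, U)) hs x hxU
    obtain ⟨e, -⟩ := isOpenImmersion_hom 𝓘 ⟨U, hU⟩ a b (hs ▸ Submodule.subset_span ha) hb
    have hD : IsAffineOpen (chartOpen 𝓘 ⟨U, hU⟩ a b) := IsAffine.of_isIso e.hom
    have hfg : Algebra.FiniteType Γ(X, U) (ChartAlg 𝓘 ⟨U, hU⟩ a) := by
      refine Algebra.FiniteType.of_surjective (MvPolynomial.aeval fun i : s => frac (a := a) i.1 (hmem i)) fun z => ?_
      rw [← AlgHom.mem_range]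
      refine induction_frac (P := fun z => z ∈ (MvPolynomial.aeval fun i : s => frac (a := a) i.1 (hmem i)).range)
        (fun r => Subalgebra.algebraMap_mem _ r) (fun y hy => ?_) (fun _ _ => Subalgebra.add_mem _) (fun _ _ => Subalgebra.mul_mem _) z
      obtain ⟨c, hc⟩ := (Submodule.mem_span_range_iff_exists_fun _).1
        (show y ∈ Submodule.span Γ(X, U) (Set.range fun i : s => (i : Γ(X, U))) by rw [show Set.range (fun i : s => (i : Γ(X, U))) = ↑s from Subtype.range_coe]; exact hs.symm ▸ hy)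
      rw [frac_linear (a := a) c (fun i : s => i.1) hmem y hy hc]
      exact sum_mem fun i _ => mul_mem (Subalgebra.algebraMap_mem _ _) ⟨MvPolynomial.X i, MvPolynomial.aeval_X _ i⟩
    haveI : IsNoetherianRing (ChartAlg 𝓘 ⟨U, hU⟩ a) := Algebra.FiniteType.isNoetherianRing Γ(X, U) _
    refine ⟨⟨_, hD⟩, hx, ?_⟩
    obtain ⟨φ, hφ⟩ := Spec.map_surjective (hD.isoSpec.inv ≫ e.hom)
    haveI : IsIso (Spec.map φ) := by rw [hφ]; infer_instance
    exact isNoetherianRing_of_ringEquiv (ChartAlg 𝓘 ⟨U, hU⟩ a) (RingEquiv.ofBijective φ.hom (isIso_SpecMap_iff.1 inferInstance))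
  choose V hxV hV using key
  exact isLocallyNoetherian_of_affine_cover (top_le_iff.1 fun x _ => TopologicalSpace.Opens.mem_iSup.2 ⟨x, hxV x⟩) hV

theorem exists_specialization [IsLocallyNoetherian X] (hb : BlowUp.IsBlowUp b 𝓘) {x₁ y : X} (h : x₁ ⤳ y)
    (hx₁ : x₁ ∉ 𝓘.support) : ∃ x' z : X', b x' = x₁ ∧ b z = y ∧ x' ⤳ z := by
  obtain ⟨W, hd, hv, l, hl, hl'⟩ := HTopV.exists_valuationRing_of_specializes h
  haveI := hd
  haveI := hv
  obtain ⟨_, ⟨U : X.Opens, hU, rfl⟩, hyU, -⟩ := X.isBasis_affineOpens.exists_subset_of_mem_open (Set.mem_univ y) isOpen_univ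
  have e : (⊤ : (Spec W).Opens) ≤ l ⁻¹ᵁ U := fun p _ => by
    show l p ∈ U
    refine ((IsLocalRing.specializes_closedPoint p).map l.continuous).mem_open U.2 ?_
    rw [hl]; exact hyU
  haveI : IsNoetherianRing Γ(X, U) := IsLocallyNoetherian.component_noetherian ⟨U, hU⟩
  let ε : (W : Type u) ≃+* Γ(Spec W, ⊤) := (Scheme.ΓSpecIso W).symm.commRingCatIsoToRingEquiv
  let J := ((𝓘.comap l).ideal ⟨⊤, isAffineOpen_top _⟩).comap ε.toRingHom
  have hJfg : J.FG := by
    have h1 : J = ((𝓘.ideal ⟨U, hU⟩).map (l.appLE U ⊤ e).hom).map ε.symm.toRingHom := by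
      rw [← IdealStalkLib.comap_ideal 𝓘 l hU (isAffineOpen_top _) e]
      exact (Ideal.map_symm ε).symm
    rw [h1]
    exact Ideal.FG.map (Ideal.FG.map (IsNoetherian.noetherian (𝓘.ideal ⟨U, hU⟩)) _) _
  obtain ⟨c, hc⟩ := IsBezout.isPrincipal_of_FG J hJfg
  have hI : (𝓘.comap l).ideal ⟨⊤, isAffineOpen_top _⟩ = Ideal.span {ε c} := by
    rw [← Ideal.map_comap_of_surjective ε.toRingHom ε.surjective ((𝓘.comap l).ideal ⟨⊤, isAffineOpen_top _⟩)]
    show Ideal.map ε.toRingHom J = _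
    rw [hc, Ideal.submodule_span_eq, Ideal.map_span, Set.image_singleton]
    rfl
  have hc0 : c ≠ 0 := by
    intro h0
    subst h0
    have hbot : 𝓘.comap l = ⊥ := Scheme.IdealSheafData.ext_of_isAffine (by rw [hI, map_zero]; simp)
    apply hx₁
    have h1 : HTopV.genPt W ∈ (𝓘.comap l).support := by rw [hbot, Scheme.IdealSheafData.support_bot]; trivial
    rw [Scheme.IdealSheafData.support_comap] at h1
    rw [← hl']
    exact h1
  obtain ⟨t, ht, -⟩ := hb.2 (Spec W) l fun p => ⟨⟨⊤, isAffineOpen_top _⟩, trivial, ε c,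
    MulEquivClass.map_nonZeroDivisors ε ▸ ⟨c, mem_nonZeroDivisors_of_ne_zero hc0, rfl⟩, hI⟩
  refine ⟨t (HTopV.genPt W), t (IsLocalRing.closedPoint W), ?_, ?_, (HTopV.genPt_specializes W _).map t.continuous⟩
  · rw [← Scheme.Hom.comp_apply, ht]; exact hl'
  · rw [← Scheme.Hom.comp_apply, ht]; exact hl

theorem regular_generization [IsLocallyNoetherian X] (hb : BlowUp.IsBlowUp b 𝓘)
    (g : (BlowUp.exceptional b 𝓘).subscheme ⟶ 𝓘.subscheme)
    (hg : g ≫ 𝓘.subschemeι = (BlowUp.exceptional b 𝓘).subschemeι ≫ b) [Smooth g] (y : 𝓘.subscheme)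
    (hy : IsRegularLocalRing (𝓘.subscheme.presheaf.stalk y)) (x₁ : X) (hgen : x₁ ⤳ 𝓘.subschemeι y)
    (hx₁ : x₁ ∉ 𝓘.support) : IsRegularLocalRing (X.presheaf.stalk x₁) := by
  haveI := isLocallyNoetherian_blowUp 𝓘 b hb
  haveI : IsLocallyNoetherian 𝓘.subscheme := LocallyOfFiniteType.isLocallyNoetherian 𝓘.subschemeι
  obtain ⟨x', z, rfl, hz, hsp⟩ := exists_specialization 𝓘 b hb hgen hx₁
  have hzE : z ∈ (BlowUp.exceptional b 𝓘).support := by
    rw [Scheme.IdealSheafData.support_comap]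
    show b z ∈ 𝓘.support
    rw [hz, ← SetLike.mem_coe, ← 𝓘.range_subschemeι]
    exact Set.mem_range_self y
  obtain ⟨w, rfl⟩ : z ∈ Set.range (BlowUp.exceptional b 𝓘).subschemeι := by
    rw [Scheme.IdealSheafData.range_subschemeι]; exact hzE
  have hgw : g w = y := 𝓘.subschemeι.isEmbedding.injective (by
    rw [← Scheme.Hom.comp_apply, hg, Scheme.Hom.comp_apply, hz])
  exact (regular_stalk_off_exceptional_iff 𝓘 b hb x' hx₁).1
    (regular_stalk_of_specializes hsp (regular_stalk_of_divisor _ hb.1 w (regular_stalk_of_smooth g w (by rw [hgw]; exact hy))))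

theorem regular_of_regular_centre [IsLocallyNoetherian X] (hb : BlowUp.IsBlowUp b 𝓘) {Y : Scheme.{u}}
    [IsLocallyNoetherian Y] (g : (BlowUp.exceptional b 𝓘).subscheme ⟶ Y) [Smooth g]
    (hX : ∀ x : X, IsRegularLocalRing (X.presheaf.stalk x)) (hY : ∀ y : Y, IsRegularLocalRing (Y.presheaf.stalk y))
    (z : X') : IsRegularLocalRing (X'.presheaf.stalk z) := by
  haveI := isLocallyNoetherian_blowUp 𝓘 b hb
  by_cases hz : b z ∈ 𝓘.support
  · obtain ⟨w, rfl⟩ : z ∈ Set.range (BlowUp.exceptional b 𝓘).subschemeι := by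
      rw [Scheme.IdealSheafData.range_subschemeι, Scheme.IdealSheafData.support_comap]; exact hz
    exact regular_stalk_of_divisor _ hb.1 w (regular_stalk_of_smooth g w (hY _))
  · exact (regular_stalk_off_exceptional_iff 𝓘 b hb z hz).2 (hX _)

end Groth.Agent.BlowChartLib
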