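/-
A criterion for a morphism of affine schemes to be a blow up.
-/
import Mathlib
import Groth.Agent.BlowCompLib.Flat
import Groth.Prelude.Def_CurvBase

set_option autoImplicit false
set_option backward.isDefEq.respectTransparency false
set_option backward.defeqAttrib.useBackward true
set_option linter.style.haveILetI false

universe u

open CategoryTheory CategoryTheory.Limits AlgebraicGeometry

namespace Groth.Agent.BlowChartLib

variable {A B : Type u} [CommRing A] [CommRing B]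

/-- The ring map to the sections over an affine open of a scheme over `Spec A`. -/
noncomputable def secHom {Y : Scheme.{u}} (g : Y ⟶ Spec (CommRingCat.of A)) (V : Y.Opens) : A →+* Γ(Y, V) :=
  ((Scheme.ΓSpecIso (CommRingCat.of A)).inv ≫ g.appLE ⊤ V le_top).hom

theorem fromSpec_secHom {Y : Scheme.{u}} (g : Y ⟶ Spec (CommRingCat.of A)) (V : Y.affineOpens) :
    Spec.map (CommRingCat.ofHom (secHom g V.1)) = V.2.fromSpec ≫ g := by
  have h1 := IsAffineOpen.SpecMap_appLE_fromSpec g (isAffineOpen_top (Spec (CommRingCat.of A))) V.2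
    (i := le_top)
  rw [IsAffineOpen.fromSpec_top, Scheme.isoSpec_Spec_inv, ← Spec.map_comp] at h1
  exact h1

theorem ideal_comap_idealSheaf {Y : Scheme.{u}} (g : Y ⟶ Spec (CommRingCat.of A)) (I : Ideal A)
    (V : Y.affineOpens) :
    ((Curv2.idealSheaf A I).comap g).ideal V = I.map (secHom g V.1) := by
  rw [IdealStalkLib.comap_ideal (Curv2.idealSheaf A I) g (isAffineOpen_top _) V.2 (le_top (a := V.1)),
    secHom, CommRingCat.hom_comp, ← Ideal.map_map]
  congr 1
  simp [Curv2.idealSheaf, Scheme.IdealSheafData.ofIdealTop_ideal]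

/-- `Spec B → Spec A` is a blow up in `I` as soon as it has the universal property on affine schemes. -/
theorem isBlowUp_SpecMap (φ : A →+* B) (I : Ideal A) (f : B) (hf : f ∈ nonZeroDivisors B)
    (hIf : I.map φ = Ideal.span {f})
    (huniv : ∀ (R : Type u) [CommRing R] (ψ : A →+* R) (t : R), t ∈ nonZeroDivisors R →
      I.map ψ = Ideal.span {t} → ∃! χ : B →+* R, χ.comp φ = ψ) :
    BlowUp.IsBlowUp (Spec.map (CommRingCat.ofHom φ)) (Curv2.idealSheaf A I) := by
  let 𝓘 := Curv2.idealSheaf A I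
  let b := Spec.map (CommRingCat.ofHom φ)
  refine ⟨fun x => ⟨⟨⊤, isAffineOpen_top _⟩, trivial, (Scheme.ΓSpecIso (CommRingCat.of B)).inv f, ?_, ?_⟩, ?_⟩
  · let e : B ≃+* Γ(Spec (CommRingCat.of B), ⊤) :=
      (Scheme.ΓSpecIso (CommRingCat.of B)).symm.commRingCatIsoToRingEquiv
    show e f ∈ _
    exact MulEquivClass.map_nonZeroDivisors e ▸ ⟨_, hf, rfl⟩
  · rw [ideal_comap_idealSheaf]
    have h1 : secHom b ⊤ = (Scheme.ΓSpecIso (CommRingCat.of B)).inv.hom.comp φ := by
      rw [secHom, show (Scheme.ΓSpecIso (CommRingCat.of B)).inv.hom.comp φ =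
        (CommRingCat.ofHom φ ≫ (Scheme.ΓSpecIso (CommRingCat.of B)).inv).hom from rfl,
        Scheme.ΓSpecIso_inv_naturality]
      congr 2
    rw [h1, ← Ideal.map_map, hIf, Ideal.map_span, Set.image_singleton]
  intro Y g hg
  -- uniqueness on every scheme
  have hext : ∀ (W : Scheme.{u}) (m m' : W ⟶ Spec (CommRingCat.of B)), m ≫ b = m' ≫ b →
      BlowUp.IsEffCartierIdeal (𝓘.comap (m ≫ b)) → m = m' := by
    intro W m m' h hc
    choose V hxV t ht hI using hc
    refine Scheme.Cover.hom_ext (W.openCoverOfIsOpenCover (fun x => (V x).1)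
      (TopologicalSpace.IsOpenCover.mk (top_le_iff.1 fun x _ => TopologicalSpace.Opens.mem_iSup.2 ⟨x, hxV x⟩))) m m' fun x => ?_
    show (V x).1.ι ≫ m = (V x).1.ι ≫ m'
    obtain ⟨χ, hχ⟩ := Spec.map_surjective ((V x).2.isoSpec.inv ≫ (V x).1.ι ≫ m)
    obtain ⟨χ', hχ'⟩ := Spec.map_surjective ((V x).2.isoSpec.inv ≫ (V x).1.ι ≫ m')
    rw [← cancel_epi (V x).2.isoSpec.inv, ← hχ, ← hχ']
    obtain ⟨χ₀, -, huq⟩ := huniv Γ(W, (V x).1) (secHom (m ≫ b) (V x).1) (t x) (ht x)
      ((ideal_comap_idealSheaf (m ≫ b) I (V x)).symm.trans (hI x))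
    have key : ∀ (m₁ : W ⟶ Spec (CommRingCat.of B)) (χ₁ : CommRingCat.of B ⟶ Γ(W, (V x).1)),
        Spec.map χ₁ = (V x).2.isoSpec.inv ≫ (V x).1.ι ≫ m₁ → m₁ ≫ b = m ≫ b → χ₁.hom = χ₀ := by
      intro m₁ χ₁ h1 h2
      refine huq _ ?_
      have h3 : CommRingCat.ofHom φ ≫ χ₁ = CommRingCat.ofHom (secHom (m ≫ b) (V x).1) := by
        apply Spec.map_injective
        rw [Spec.map_comp, h1, fromSpec_secHom]
        simp only [IsAffineOpen.fromSpec, Category.assoc]
        exact congrArg (fun q => (V x).2.isoSpec.inv ≫ (V x).1.ι ≫ q) h2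
      exact congrArg CommRingCat.Hom.hom h3
    exact congrArg Spec.map (CommRingCat.hom_ext ((key m χ hχ rfl).trans (key m' χ' hχ' h.symm).symm))
  choose V hxV t ht hI using hg
  have hV : ∀ y, ∃ h : (V y).1.toScheme ⟶ Spec (CommRingCat.of B), h ≫ b = (V y).1.ι ≫ g := by
    intro y
    obtain ⟨χ, hχ, -⟩ := huniv Γ(Y, (V y).1) (secHom g (V y).1) (t y) (ht y)
      ((ideal_comap_idealSheaf g I (V y)).symm.trans (hI y))
    refine ⟨(V y).2.isoSpec.hom ≫ Spec.map (CommRingCat.ofHom χ), ?_⟩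
    rw [Category.assoc, ← Spec.map_comp,
      show CommRingCat.ofHom φ ≫ CommRingCat.ofHom χ = CommRingCat.ofHom (secHom g (V y).1) from
        CommRingCat.hom_ext hχ, fromSpec_secHom]
    rw [IsAffineOpen.fromSpec, Category.assoc, Iso.hom_inv_id_assoc]
  choose h hh using hV
  let 𝒰 := Y.openCoverOfIsOpenCover (fun x => (V x).1)
    (TopologicalSpace.IsOpenCover.mk (top_le_iff.1 fun x _ => TopologicalSpace.Opens.mem_iSup.2 ⟨x, hxV x⟩))
  have hcart : BlowUp.IsEffCartierIdeal (𝓘.comap g) := fun x => ⟨V x, hxV x, t x, ht x, hI x⟩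
  have hcompat : ∀ x y : Y, pullback.fst (𝒰.f x) (𝒰.f y) ≫ h x = pullback.snd (𝒰.f x) (𝒰.f y) ≫ h y := by
    intro x y
    refine hext _ _ _ ?_ ?_
    · rw [Category.assoc, Category.assoc]
      exact (congrArg (_ ≫ ·) (hh x)).trans ((pullback.condition_assoc g).trans (congrArg (_ ≫ ·) (hh y)).symm)
    · rw [Category.assoc, show h x ≫ b = 𝒰.f x ≫ g from hh x, ← Category.assoc,
        Scheme.IdealSheafData.comap_comp]
      exact BlowCompLib.isEffCartier_comap_flat hcart (pullback.fst (𝒰.f x) (𝒰.f y) ≫ 𝒰.f x)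
  refine ⟨𝒰.glueMorphisms h hcompat, ?_, fun m hm => ?_⟩
  · exact Scheme.Cover.hom_ext 𝒰 _ _ fun x => (Scheme.Cover.ι_glueMorphisms_assoc 𝒰 h hcompat x b).trans (hh x)
  · refine Scheme.Cover.hom_ext 𝒰 _ _ fun x => ?_
    rw [Scheme.Cover.ι_glueMorphisms]
    refine hext _ _ _ ?_ ?_
    · rw [Category.assoc, hm]; exact (hh x).symm
    · rw [Category.assoc, hm, Scheme.IdealSheafData.comap_comp]
      exact BlowCompLib.isEffCartier_comap_flat hcart (𝒰.f x)

/-- The universal property for an ideal which stays inside the ring after extension to a free rank one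
ideal. -/
theorem existsUnique_lift [Algebra A B] (hinj : Function.Injective (algebraMap A B)) (I : Ideal A)
    (hIB : (Ideal.map (algebraMap A B) I : Set B) ⊆ algebraMap A B '' (I : Set A))
    (f : B) (hgen : Ideal.map (algebraMap A B) I = Ideal.span {f})
    (R : Type u) [CommRing R] (ψ : A →+* R) (t : R) (ht : t ∈ nonZeroDivisors R)
    (hψ : I.map ψ = Ideal.span {t}) : ∃! χ : B →+* R, χ.comp (algebraMap A B) = ψ := by
  let φ := algebraMap A B
  have hmem : ∀ β : B, ∃ a ∈ I, φ a = β * f := fun β =>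
    hIB (by rw [SetLike.mem_coe, hgen]; exact Ideal.mem_span_singleton'.2 ⟨β, rfl⟩)
  choose α hαI hα using hmem
  let f₀ := α 1
  have hf₀ : φ f₀ = f := (hα 1).trans (one_mul f)
  have hdiv : ∀ x ∈ I, ∃ X : R, ψ x = X * t := fun x hx => by
    obtain ⟨X, hX⟩ := Ideal.mem_span_singleton'.1 (hψ ▸ Ideal.mem_map_of_mem ψ hx)
    exact ⟨X, hX.symm⟩
  obtain ⟨F, hF⟩ := hdiv f₀ (hαI 1)
  -- every fraction has its square divisible by `F`
  have hsq : ∀ x ∈ I, ∀ X : R, ψ x = X * t → X ^ 2 ∈ Ideal.span {F} := by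
    intro x hx X hX
    obtain ⟨β, hβ⟩ := Ideal.mem_span_singleton'.1 (hgen ▸ Ideal.mem_map_of_mem φ hx)
    have hx2 : x ^ 2 = f₀ * α (β ^ 2) := hinj (by
      show φ (x ^ 2) = φ (f₀ * α (β ^ 2))
      rw [map_pow, map_mul, ← hβ, hf₀, hα]; ring)
    obtain ⟨Z, hZ⟩ := hdiv _ (hαI (β ^ 2))
    refine Ideal.mem_span_singleton'.2 ⟨Z, ?_⟩
    refine (mul_cancel_right_mem_nonZeroDivisors (mul_mem ht ht)).1 ?_
    have := congrArg ψ hx2
    rw [map_pow, map_mul, hX, hF, hZ] at this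
    linear_combination -this
  have hFu : IsUnit F := by
    by_contra hn
    obtain ⟨M, hM, hle⟩ := Ideal.exists_le_maximal (Ideal.span {F})
      (fun htop => hn (Ideal.span_singleton_eq_top.1 htop))
    have h1 : I.map ψ ≤ M * Ideal.span {t} := Ideal.map_le_iff_le_comap.2 fun x hx => by
      obtain ⟨X, hX⟩ := hdiv x hx
      exact Ideal.mem_mul_span_singleton.2 ⟨X, hM.isPrime.mem_of_pow_mem 2 (hle (hsq x hx X hX)), hX.symm⟩
    obtain ⟨z, hz, hzt⟩ := Ideal.mem_mul_span_singleton.1 (h1 (hψ ▸ Ideal.mem_span_singleton_self t))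
    have : z = 1 := (mul_cancel_right_mem_nonZeroDivisors ht).1 (by rw [one_mul, hzt])
    exact hM.ne_top ((Ideal.eq_top_iff_one _).2 (this ▸ hz))
  have hf₀n : ψ f₀ ∈ nonZeroDivisors R := hF ▸ mul_mem hFu.mem_nonZeroDivisors ht
  have hval : ∀ β : B, ∃ r : R, r * ψ f₀ = ψ (α β) := fun β => by
    obtain ⟨Z, hZ⟩ := hdiv _ (hαI β)
    refine ⟨Z * ↑hFu.unit⁻¹, ?_⟩
    rw [hZ, hF, mul_assoc, ← mul_assoc _ F t, IsUnit.val_inv_mul, one_mul]
  choose χ hχ using hval
  have huq : ∀ (β : B) (r : R), r * ψ f₀ = ψ (α β) → χ β = r := fun β r hr =>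
    (mul_cancel_right_mem_nonZeroDivisors hf₀n).1 ((hχ β).trans hr.symm)
  have hA : ∀ a : A, χ (φ a) = ψ a := fun a => huq _ _ (by
    rw [← map_mul]
    refine congrArg ψ (hinj ?_)
    show φ (a * f₀) = φ (α (φ a))
    rw [map_mul, hf₀, hα])
  let χh : B →+* R :=
    { toFun := χ
      map_one' := by rw [← map_one φ, hA, map_one]
      map_zero' := by rw [← map_zero φ, hA, map_zero]
      map_add' := fun β γ => huq _ _ (by
        rw [add_mul, hχ, hχ, ← map_add]
        refine congrArg ψ (hinj ?_)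
        show φ (α β + α γ) = φ (α (β + γ))
        rw [map_add, hα, hα, hα, add_mul])
      map_mul' := fun β γ => huq _ _ (by
        refine (mul_cancel_right_mem_nonZeroDivisors hf₀n).1 ?_
        calc χ β * χ γ * ψ f₀ * ψ f₀ = (χ β * ψ f₀) * (χ γ * ψ f₀) := by ring
          _ = ψ (α β * α γ) := by rw [hχ, hχ, map_mul]
          _ = ψ (α (β * γ) * f₀) := by
              refine congrArg ψ (hinj ?_)
              show φ (α β * α γ) = φ (α (β * γ) * f₀)
              rw [map_mul, map_mul, hα, hα, hα, hf₀]; ring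
          _ = ψ (α (β * γ)) * ψ f₀ := map_mul _ _ _) }
  refine ⟨χh, RingHom.ext hA, fun χ' hχ' => RingHom.ext fun β => (huq β (χ' β) ?_).symm⟩
  have h2 : ∀ a, χ' (φ a) = ψ a := fun a => RingHom.congr_fun hχ' a
  rw [← h2, ← h2, ← map_mul, hf₀, hα]

end Groth.Agent.BlowChartLib
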