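import Mathlib
import Groth.Agent.BlowChartLib.Scheme
import Groth.Agent.QRegLib.Basic
import Groth.Prelude.Def_Mor2

/-! The exceptional divisor of the blow-up in a regular centre. -/

set_option autoImplicit false
set_option backward.isDefEq.respectTransparency false
set_option backward.defeqAttrib.useBackward true
set_option linter.style.haveILetI false

universe u

open CategoryTheory CategoryTheory.Limits AlgebraicGeometry MvPolynomial

namespace Groth.Agent.BlowChartLib

section Algebra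

variable {A : Type u} [CommRing A] {n : ℕ}

/-- The homogenisation of a monomial in the variables other than `i₀`. -/
noncomputable def homog (i₀ : Fin n) (d : ℕ) (m : {j : Fin n // j ≠ i₀} →₀ ℕ) : Fin n →₀ ℕ :=
  m.mapDomain Subtype.val + Finsupp.single i₀ (d - m.degree)

theorem homog_inj {i₀ : Fin n} {d : ℕ} {m m' : {j : Fin n // j ≠ i₀} →₀ ℕ} (h : homog i₀ d m = homog i₀ d m') : m = m' := by
  ext j
  have h1 := DFunLike.congr_fun h j.1
  simp only [homog, Finsupp.add_apply, Finsupp.mapDomain_apply Subtype.val_injective,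
    Finsupp.single_eq_of_ne j.2, add_zero] at h1
  exact h1

theorem coeff_mem_of_eval₂_eq_zero {f : Fin n → A} (hf : CAlgX.IsQuasiRegular f) (i₀ : Fin n)
    {L : Type u} [CommRing L] [Algebra A L] [IsLocalization.Away (f i₀) L] (v : {j : Fin n // j ≠ i₀} → L)
    (hv : ∀ j, algebraMap A L (f j.1) = v j * algebraMap A L (f i₀))
    (R : MvPolynomial {j : Fin n // j ≠ i₀} A) (hR : eval₂Hom (algebraMap A L) v R = 0) (m : {j : Fin n // j ≠ i₀} →₀ ℕ) :
    R.coeff m ∈ Ideal.span (Set.range f) := by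
  classical
  by_cases hm : m ∈ R.support
  swap
  · rw [notMem_support_iff.1 hm]; exact zero_mem _
  let d := R.totalDegree
  have hdeg : ∀ m' ∈ R.support, m'.degree ≤ d := fun m' hm' => by
    rw [Finsupp.degree_apply]
    exact le_totalDegree hm'
  have hterm : ∀ m' ∈ R.support, algebraMap A L (∏ i, f i ^ homog i₀ d m' i) =
      (∏ j, v j ^ m' j) * algebraMap A L (f i₀) ^ d := by
    intro m' hm'
    have h1 : ∏ i, f i ^ homog i₀ d m' i = (∏ j : {j : Fin n // j ≠ i₀}, f j.1 ^ m' j) * f i₀ ^ (d - m'.degree) := by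
      rw [← Finset.prod_erase_mul _ _ (Finset.mem_univ i₀)]
      congr 1
      · rw [Finset.prod_subtype (p := fun j => j ≠ i₀) (Finset.univ.erase i₀) (fun x => by simp) (fun j => f j ^ homog i₀ d m' j)]
        refine Finset.prod_congr rfl fun j _ => ?_
        simp only [homog, Finsupp.add_apply, Finsupp.mapDomain_apply Subtype.val_injective,
          Finsupp.single_eq_of_ne j.2, add_zero]
      · congr 1
        simp only [homog, Finsupp.add_apply, Finsupp.single_eq_same]
        rw [Finsupp.mapDomain_notin_range, zero_add]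
        rintro ⟨j, hj⟩
        exact j.2 hj
    rw [h1, map_mul, map_prod, map_pow]
    simp only [map_pow, hv, mul_pow, Finset.prod_mul_distrib, Finset.prod_pow_eq_pow_sum]
    rw [mul_assoc, ← pow_add, ← Finsupp.degree_eq_sum, Nat.add_sub_cancel' (hdeg m' hm')]
  have h0 : algebraMap A L (∑ m' ∈ R.support, R.coeff m' * ∏ i, f i ^ homog i₀ d m' i) = 0 := by
    rw [coe_eval₂Hom, eval₂_eq'] at hR
    rw [map_sum, ← zero_mul (algebraMap A L (f i₀) ^ d), ← hR, Finset.sum_mul]
    exact Finset.sum_congr rfl fun m' hm' => by rw [map_mul, hterm m' hm', mul_assoc]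
  obtain ⟨⟨_, N, rfl⟩, hN⟩ := (IsLocalization.map_eq_zero_iff (Submonoid.powers (f i₀)) L _).1 h0
  let H : MvPolynomial (Fin n) A := ∑ m' ∈ R.support, monomial (homog i₀ d m' + Finsupp.single i₀ N) (R.coeff m')
  have hH : H.IsHomogeneous (d + N) := IsHomogeneous.sum _ _ _ fun m' hm' => isHomogeneous_monomial _ (by
    rw [map_add, homog, map_add, Finsupp.degree_single, Finsupp.degree_single,
      show (m'.mapDomain (Subtype.val : {j : Fin n // j ≠ i₀} → Fin n)).degree = m'.degree from Finsupp.degree_mapDomain _ _,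
      Nat.add_sub_cancel' (hdeg m' hm')])
  have hev : eval f H = 0 := by
    rw [map_sum, ← hN, Finset.mul_sum]
    refine Finset.sum_congr rfl fun m' _ => ?_
    rw [eval_monomial, Finsupp.prod_fintype _ _ (fun i => pow_zero _)]
    simp only [Finsupp.add_apply, pow_add, Finset.prod_mul_distrib]
    rw [Finset.prod_eq_single i₀ (fun i _ hi => by rw [Finsupp.single_eq_of_ne hi, pow_zero])
      (fun h => absurd (Finset.mem_univ i₀) h) (f := fun i => f i ^ Finsupp.single i₀ N i), Finsupp.single_eq_same]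
    ring
  have := hf (d + N) H hH (by rw [hev]; exact zero_mem _) (homog i₀ d m + Finsupp.single i₀ N)
  convert this using 1
  rw [coeff_sum, Finset.sum_eq_single m (fun m' _ hne => by
      rw [coeff_monomial, if_neg fun h => hne (homog_inj (add_right_cancel h))])
    (fun h => absurd hm h), coeff_monomial, if_pos rfl]

theorem exists_presentation {f : Fin n → A} (hf : CAlgX.IsQuasiRegular f) {I : Ideal A}
    (hI : I = Ideal.span (Set.range f)) (i₀ : Fin n) :
    ∃ Ψ : MvPolynomial {j : Fin n // j ≠ i₀} A →+* BlowUp.affineAlgebra A I (f i₀),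
      Function.Surjective Ψ ∧ (∀ r, Ψ (C r) = algebraMap A _ r) ∧
        ∀ P, Ψ P ∈ Ideal.span {algebraMap A (BlowUp.affineAlgebra A I (f i₀)) (f i₀)} → ∀ m, P.coeff m ∈ I := by
  classical
  have hmem : ∀ j, f j ∈ I := fun j => hI ▸ Ideal.subset_span ⟨j, rfl⟩
  let Ψ : MvPolynomial {j : Fin n // j ≠ i₀} A →+* BlowUp.affineAlgebra A I (f i₀) :=
    eval₂Hom (algebraMap A _) fun j => frac (f j.1) (hmem j.1)
  have hfr : ∀ j, frac (a := f i₀) (f j) (hmem j) ∈ Ψ.range := fun j => by
    by_cases hj : j = i₀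
    · subst hj
      exact ⟨1, (Ψ.map_one).trans (frac_self (hmem j)).symm⟩
    · exact ⟨X ⟨j, hj⟩, eval₂Hom_X' _ _ _⟩
  have halg : ∀ r, algebraMap A (BlowUp.affineAlgebra A I (f i₀)) r ∈ Ψ.range := fun r => ⟨C r, eval₂Hom_C _ _ _⟩
  have hsurj : Function.Surjective Ψ := fun z =>
    induction_frac (P := fun z => z ∈ Ψ.range) halg
      (fun x hx => by
        obtain ⟨c, hc⟩ := Ideal.mem_span_range_iff_exists_fun.1 (hI.le hx)
        have h1 := frac_linear (a := f i₀) c f hmem x hx hc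
        exact h1 ▸ sum_mem fun i _ => mul_mem (halg (c i)) (hfr i))
      (fun x y => Subring.add_mem _) (fun x y => Subring.mul_mem _) z
  refine ⟨Ψ, hsurj, fun r => eval₂Hom_C _ _ _, ?_⟩
  let v : {j : Fin n // j ≠ i₀} → Localization.Away (f i₀) := fun j => (frac (a := f i₀) (f j.1) (hmem j.1)).val
  have hval : (BlowUp.affineAlgebra A I (f i₀)).val.toRingHom.comp Ψ = eval₂Hom (algebraMap A (Localization.Away (f i₀))) v :=
    MvPolynomial.ringHom_ext (fun r => (congrArg Subtype.val (eval₂Hom_C _ _ r)).trans (eval₂Hom_C (algebraMap A (Localization.Away (f i₀))) v r).symm)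
      (fun j => (congrArg Subtype.val (eval₂Hom_X' _ _ j)).trans (eval₂Hom_X' (algebraMap A (Localization.Away (f i₀))) v j).symm)
  intro P hP m
  obtain ⟨z, hz⟩ := Ideal.mem_span_singleton'.1 hP
  obtain ⟨Q, rfl⟩ := hsurj z
  have h0 : Ψ (P - C (f i₀) * Q) = 0 := by
    refine (Ψ.map_sub _ _).trans (sub_eq_zero.2 (hz.symm.trans ?_))
    exact ((mul_comm _ _).trans (congrArg (· * Ψ Q) (eval₂Hom_C _ _ (f i₀)).symm)).trans (Ψ.map_mul _ _).symm
  have h : (P - C (f i₀) * Q).coeff m ∈ I := hI ▸ coeff_mem_of_eval₂_eq_zero hf i₀ v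
    (fun j => val_frac (f j.1) (hmem j.1)) _
    ((RingHom.congr_fun hval _).symm.trans (congrArg Subtype.val h0)) m
  rw [coeff_sub, coeff_C_mul] at h
  simpa using add_mem h (Ideal.mul_mem_right (Q.coeff m) I (hmem i₀))

theorem smooth_of_presentation {f : Fin n → A} (hf : CAlgX.IsQuasiRegular f) {I : Ideal A}
    (hI : I = Ideal.span (Set.range f)) (i₀ : Fin n) {R E : Type u} [CommRing R] [CommRing E]
    (p : A →+* R) (hp : Function.Surjective p) (hpk : RingHom.ker p = I)
    (q : BlowUp.affineAlgebra A I (f i₀) →+* E) (hq : Function.Surjective q)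
    (hqk : RingHom.ker q = Ideal.span {algebraMap A _ (f i₀)})
    (h : R →+* E) (hh : h.comp p = q.comp (algebraMap A _)) : h.Smooth := by
  obtain ⟨Ψ, hΨ, hΨC, hΨk⟩ := exists_presentation hf hI i₀
  let Λ : MvPolynomial {j : Fin n // j ≠ i₀} R →+* E := eval₂Hom h fun j => q (Ψ (X j))
  have hΛ : Λ.comp (MvPolynomial.map p) = q.comp Ψ := MvPolynomial.ringHom_ext
    (fun r => by
      show Λ (MvPolynomial.map p (C r)) = q (Ψ (C r))
      rw [map_C, hΨC]
      exact (eval₂Hom_C _ _ _).trans (RingHom.congr_fun hh r))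
    (fun j => by
      show Λ (MvPolynomial.map p (X j)) = q (Ψ (X j))
      rw [map_X]
      exact eval₂Hom_X' _ _ _)
  have hbij : Function.Bijective Λ := by
    refine ⟨(injective_iff_map_eq_zero Λ).2 fun P hP => ?_, fun e => ?_⟩
    · obtain ⟨P, rfl⟩ := MvPolynomial.map_surjective p hp P
      ext m
      rw [coeff_map, coeff_zero, ← RingHom.mem_ker, hpk]
      refine hΨk P ?_ m
      rw [← hqk, RingHom.mem_ker]
      exact (RingHom.congr_fun hΛ P).symm.trans hP
    · obtain ⟨z, rfl⟩ := hq e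
      obtain ⟨P, rfl⟩ := hΨ z
      exact ⟨MvPolynomial.map p P, RingHom.congr_fun hΛ P⟩
  rw [show h = Λ.comp C from RingHom.ext fun r => (eval₂Hom_C _ _ _).symm]
  refine RingHom.Smooth.comp ?_ (RingHom.Smooth.of_bijective hbij)
  rw [← algebraMap_eq, RingHom.smooth_algebraMap]
  exact ⟨inferInstance, inferInstance⟩

end Algebra

section Scheme

variable {X X' Y : Scheme.{u}}

theorem smooth_exceptional (i : Y ⟶ X) (hi : Mor2.IsRegularClosedImmersion i) (b : X' ⟶ X)
    (hb : BlowUp.IsBlowUp b i.ker) (g : (BlowUp.exceptional b i.ker).subscheme ⟶ Y)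
    (hg : g ≫ i = (BlowUp.exceptional b i.ker).subschemeι ≫ b) : Smooth g := by
  haveI := hi.1
  rw [HasRingHomProperty.iff_exists_appLE (P := @Smooth)
    ((RingHom.Smooth.stableUnderComposition.stableUnderCompositionWithLocalizationAway RingHom.Smooth.holdsForLocalizationAway).left)]
  intro z
  obtain ⟨U, hU, hzU, rs, hrs, hk⟩ := hi.2 (g z)
  let j := (BlowUp.exceptional b i.ker).subschemeι
  have hbj : b (j z) = i (g z) := by
    rw [← Scheme.Hom.comp_apply, ← Scheme.Hom.comp_apply, hg]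
  have hI : i.ker.ideal ⟨U, hU⟩ = Ideal.span (Set.range rs.get) := by
    rw [hk, Set.range_list_get]
  obtain ⟨_, ⟨i₀, rfl⟩, hx⟩ := exists_mem_chartOpen i.ker ⟨U, hU⟩ b hb (Set.range rs.get) hI.symm (j z)
    (show b (j z) ∈ U by rw [hbj]; exact hzU)
  have ha : rs.get i₀ ∈ i.ker.ideal ⟨U, hU⟩ := hI ▸ Ideal.subset_span ⟨i₀, rfl⟩
  obtain ⟨e, he⟩ := isOpenImmersion_hom i.ker ⟨U, hU⟩ (rs.get i₀) b ha hb
  let D : X'.Opens := chartOpen i.ker ⟨U, hU⟩ (rs.get i₀) b
  have hD : IsAffineOpen D := IsAffine.of_isIso e.hom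
  have eD : D ≤ b ⁻¹ᵁ U := fun y hy => by
    show b y ∈ U
    have h2 : b y = chartMap i.ker ⟨U, hU⟩ (rs.get i₀) (e.hom ⟨y, hy⟩) := by
      rw [← Scheme.Hom.comp_apply, he]; rfl
    rw [h2]
    exact le_preimage_chartMap i.ker ⟨U, hU⟩ (rs.get i₀) (x := e.hom ⟨y, hy⟩) trivial
  obtain ⟨φ, hφ⟩ := Spec.map_surjective (hD.isoSpec.inv ≫ e.hom)
  haveI : IsIso (Spec.map φ) := by rw [hφ]; infer_instance
  haveI : IsIso φ := (ConcreteCategory.isIso_iff_bijective φ).2 (isIso_SpecMap_iff.1 inferInstance)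
  have hφb : (b.appLE U D eD).hom = φ.hom.comp (algebraMap Γ(X, U) (ChartAlg i.ker ⟨U, hU⟩ (rs.get i₀))) := by
    have h1 : b.appLE U D eD = CommRingCat.ofHom (algebraMap Γ(X, U) (ChartAlg i.ker ⟨U, hU⟩ (rs.get i₀))) ≫ φ := by
      apply Spec.map_injective
      rw [← cancel_mono hU.fromSpec, IsAffineOpen.SpecMap_appLE_fromSpec b hU hD eD, Spec.map_comp, hφ]
      simp only [Category.assoc]
      show hD.fromSpec ≫ b = hD.isoSpec.inv ≫ e.hom ≫ chartMap i.ker ⟨U, hU⟩ (rs.get i₀)
      rw [he, IsAffineOpen.fromSpec, Category.assoc]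
    rw [h1]; rfl
  have hφbij : Function.Bijective φ.hom := ConcreteCategory.bijective_of_isIso φ
  have hV : IsAffineOpen (i ⁻¹ᵁ U) := hU.preimage i
  have hjk : RingHom.ker (j.app D).hom = (Ideal.span {algebraMap Γ(X, U) (ChartAlg i.ker ⟨U, hU⟩ (rs.get i₀)) (rs.get i₀)}).map φ.hom := by
    rw [Scheme.IdealSheafData.ker_subschemeι_app _ ⟨D, hD⟩, IdealStalkLib.comap_ideal i.ker b hU hD eD, hφb,
      ← Ideal.map_map, map_eq_span ha]
  have e' : j ⁻¹ᵁ D ≤ g ⁻¹ᵁ (i ⁻¹ᵁ U) := fun y hy => by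
    show i (g y) ∈ U
    rw [← Scheme.Hom.comp_apply, hg, Scheme.Hom.comp_apply]
    exact eD hy
  refine ⟨⟨_, hV⟩, ⟨j ⁻¹ᵁ D, hD.preimage j⟩, hx, e', ?_⟩
  refine smooth_of_presentation (f := rs.get)
    (Groth.Agent.QRegLib.isQuasiRegular_of_isWeaklyRegular _ (by rw [List.ofFn_get]; exact hrs.toIsWeaklyRegular))
    hI i₀ (i.app U).hom (i.app_surjective U hU) (by rw [← Scheme.Hom.ker_apply i ⟨U, hU⟩])
    ((j.app D).hom.comp φ.hom) ((j.app_surjective D hD).comp hφbij.2) ?_ _ ?_
  · rw [← RingHom.comap_ker, hjk, Ideal.comap_map_of_bijective φ.hom hφbij]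
  · rw [RingHom.comp_assoc, ← hφb, ← CommRingCat.hom_comp, ← CommRingCat.hom_comp, Scheme.Hom.app_eq_appLE,
      Scheme.Hom.app_eq_appLE, Scheme.Hom.appLE_comp_appLE, Scheme.Hom.appLE_comp_appLE]
    simp only [hg]
    rfl

end Scheme

end Groth.Agent.BlowChartLib
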