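import Mathlib
import Groth.Agent.BlowChartLib.Scheme

/-! Affine blow-up algebras of isomorphic rings. -/

set_option autoImplicit false
set_option backward.isDefEq.respectTransparency false
set_option backward.defeqAttrib.useBackward true
set_option linter.style.haveILetI false

universe u

open CategoryTheory CategoryTheory.Limits AlgebraicGeometry

namespace Groth.Agent.BlowChartLib

theorem exists_equiv {A A' : Type u} [CommRing A] [CommRing A'] (ε : A ≃+* A') {I : Ideal A} {I' : Ideal A'}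
    (hI : I.map ε.toRingHom = I') {a : A} (ha : a ∈ I) :
    ∃ e : BlowUp.affineAlgebra A I a ≃+* BlowUp.affineAlgebra A' I' (ε a),
      e.toRingHom.comp (algebraMap A _) = (algebraMap A' _).comp ε.toRingHom := by
  have ha' : ε a ∈ I' := hI ▸ Ideal.mem_map_of_mem _ ha
  have hI' : I'.map ε.symm.toRingHom = I := by
    rw [← hI, Ideal.map_map, show ε.symm.toRingHom.comp ε.toRingHom = RingHom.id A from
      RingHom.ext fun x => ε.symm_apply_apply x, Ideal.map_id]
  obtain ⟨φ, hφ⟩ := exists_hom (I := I) (a := a) ((algebraMap A' (BlowUp.affineAlgebra A' I' (ε a))).comp ε.toRingHom)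
    mem_nonZeroDivisors (by rw [← Ideal.map_map, hI, map_eq_span ha']; exact le_rfl)
  obtain ⟨φ', hφ'⟩ := exists_hom (I := I') (a := ε a) ((algebraMap A (BlowUp.affineAlgebra A I a)).comp ε.symm.toRingHom)
    (show algebraMap A (BlowUp.affineAlgebra A I a) (ε.symm (ε a)) ∈ _ by rw [ε.symm_apply_apply]; exact mem_nonZeroDivisors)
    (by rw [← Ideal.map_map, hI', map_eq_span ha]
        exact le_of_eq (congrArg (fun z => Ideal.span {algebraMap A _ z}) (ε.symm_apply_apply a).symm))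
  have h : ∀ r, φ (algebraMap A _ r) = algebraMap A' _ (ε r) := fun r => RingHom.congr_fun hφ r
  have h' : ∀ r, φ' (algebraMap A' _ r) = algebraMap A _ (ε.symm r) := fun r => RingHom.congr_fun hφ' r
  refine ⟨RingEquiv.ofRingHom φ φ' (hom_ext (fun r => ?_) ?_) (hom_ext (fun r => ?_) ?_), hφ⟩
  · show φ (φ' _) = algebraMap A' _ r
    rw [h', h, ε.apply_symm_apply]
  · show φ (φ' _) ∈ _
    rw [h', h, ε.apply_symm_apply]
    exact mem_nonZeroDivisors
  · show φ' (φ _) = algebraMap A _ r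
    rw [h, h', ε.symm_apply_apply]
  · show φ' (φ _) ∈ _
    rw [h, h', ε.symm_apply_apply]
    exact mem_nonZeroDivisors

theorem exists_affine_chart (A : Type u) [CommRing A] (I : Ideal A) {X' : Scheme.{u}} (b : X' ⟶ Spec (CommRingCat.of A))
    (hb : BlowUp.IsBlowUp b (Scheme.IdealSheafData.ofIdealTop (I.map (Scheme.ΓSpecIso (CommRingCat.of A)).inv.hom)))
    (s : Set A) (hs : Ideal.span s = I) (x' : X') :
    ∃ (a : A) (_ : a ∈ s) (V : X'.Opens) (e : (V : Scheme.{u}) ≅ Spec (CommRingCat.of ↥(BlowUp.affineAlgebra A I a))),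
      x' ∈ V ∧ e.hom ≫ Spec.map (CommRingCat.ofHom (algebraMap A ↥(BlowUp.affineAlgebra A I a))) = V.ι ≫ b := by
  let 𝓘 := Scheme.IdealSheafData.ofIdealTop (I.map (Scheme.ΓSpecIso (CommRingCat.of A)).inv.hom)
  let U : (Spec (CommRingCat.of A)).affineOpens := ⟨⊤, isAffineOpen_top _⟩
  let ε : A ≃+* Γ(Spec (CommRingCat.of A), ⊤) := (Scheme.ΓSpecIso (CommRingCat.of A)).symm.commRingCatIsoToRingEquiv
  have hU : 𝓘.ideal U = I.map ε.toRingHom := by
    simp [𝓘, U, Scheme.IdealSheafData.ofIdealTop_ideal]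
    rfl
  obtain ⟨_, ⟨a, ha, rfl⟩, hx⟩ := exists_mem_chartOpen 𝓘 U b hb (ε '' s)
    (by rw [hU, ← hs, Ideal.map_span]; rfl) x' trivial
  have haI : ε a ∈ 𝓘.ideal U := hU ▸ Ideal.mem_map_of_mem _ (hs ▸ Ideal.subset_span ha)
  obtain ⟨e, he⟩ := isOpenImmersion_hom 𝓘 U (ε a) b haI hb
  obtain ⟨η, hη⟩ := exists_equiv ε hU.symm (hs ▸ Ideal.subset_span ha : a ∈ I)
  refine ⟨a, ha, _, e ≪≫ Scheme.Spec.mapIso η.toCommRingCatIso.op, hx, ?_⟩
  rw [← he, Iso.trans_hom, Category.assoc]
  refine congrArg (e.hom ≫ ·) ?_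
  show Spec.map η.toCommRingCatIso.hom ≫ Spec.map _ = Spec.map _ ≫ (isAffineOpen_top (Spec (CommRingCat.of A))).fromSpec
  rw [IsAffineOpen.fromSpec_top, Scheme.isoSpec_Spec_inv, ← Spec.map_comp, ← Spec.map_comp]
  exact congrArg Spec.map (CommRingCat.hom_ext hη)

end Groth.Agent.BlowChartLib
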